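import Mathlib

/-!
# Extending group-like elements along a surjection of cocommutative coalgebras

Over an algebraically closed field a group-like element of `B` lifts along a surjective coalgebra
map `A → B` out of a cocommutative coalgebra: this is the extension of characters of a closed
subgroup of a commutative affine group.
-/

open TensorProduct

namespace Groth.Agent.GrpLikeExtend

variable {k : Type*} [Field k]

/-- A prime of an Artinian ring acting faithfully kills some nonzero vector. -/
theorem exists_ne_zero_forall_mem_eq_zero {S W : Type*} [CommRing S] [IsArtinianRing S]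
    [AddCommGroup W] [Module S W] [FaithfulSMul S W]
    (P : Ideal S) [P.IsPrime] : ∃ w : W, w ≠ 0 ∧ ∀ x ∈ P, x • w = 0 := by
  have hP : P ∈ associatedPrimes S S := by
    apply Module.associatedPrimes.minimalPrimes_annihilator_subset_associatedPrimes S S
    have h0 : Module.annihilator S S = ⊥ :=
      Module.annihilator_eq_bot.2 inferInstance
    rw [h0]
    exact ⟨⟨inferInstance, bot_le⟩, fun Q hQ hQP =>
      have := hQ.1
      ((IsArtinianRing.isMaximal_of_isPrime Q).eq_of_le Ideal.IsPrime.ne_top' hQP).ge⟩
  obtain ⟨-, s, hs⟩ := isAssociatedPrime_iff.1 hP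
  have hs0 : s ≠ 0 := fun h => by
    apply (inferInstance : P.IsPrime).ne_top
    rw [hs, eq_top_iff]
    intro x _
    simp [h]
  obtain ⟨w, hw⟩ : ∃ w : W, s • w ≠ 0 := by
    by_contra! h
    exact hs0 (FaithfulSMul.eq_of_smul_eq_smul fun w : W => by rw [h, zero_smul])
  refine ⟨s • w, hw, fun x hx => ?_⟩
  rw [hs, Submodule.mem_colon_singleton] at hx
  have : x * s = 0 := by simpa using hx
  rw [smul_smul, this, zero_smul]

/-- Commuting operators `N i` sending a vector `v ∉ U` into the invariant subspace `U` have a
common kernel. -/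
theorem exists_common_kernel {W ι : Type*} [AddCommGroup W] [Module k W] [FiniteDimensional k W]
    (N : ι → Module.End k W) (hcomm : ∀ i j, N i * N j = N j * N i) (U : Submodule k W)
    (hU : ∀ i, ∀ x ∈ U, N i x ∈ U) (v : W) (hv : v ∉ U) (hNv : ∀ i, N i v ∈ U) :
    ∃ w : W, w ≠ 0 ∧ ∀ i, N i w = 0 := by
  let S := Algebra.adjoin k (Set.range N)
  let _ : CommRing S := Algebra.adjoinCommRingOfComm k (by
    rintro _ ⟨i, rfl⟩ _ ⟨j, rfl⟩
    exact hcomm i j)
  let _ : Algebra k S := Subalgebra.algebra _
  have : IsArtinianRing S := IsArtinianRing.of_finite k S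
  have : FaithfulSMul S W := ⟨fun {s t} h => Subtype.ext (LinearMap.ext h)⟩
  let g : ι → S := fun i => ⟨N i, Algebra.subset_adjoin ⟨i, rfl⟩⟩
  have hSU : ∀ s : S, ∀ x ∈ U, (s : Module.End k W) x ∈ U := fun s => by
    obtain ⟨s, hs⟩ := s
    induction hs using Algebra.adjoin_induction with
    | mem t ht =>
      obtain ⟨i, rfl⟩ := ht
      exact hU i
    | algebraMap r => exact fun x hx => U.smul_mem r hx
    | add a b _ _ ha hb => exact fun x hx => U.add_mem (ha x hx) (hb x hx)
    | mul a b _ _ ha hb => exact fun x hx => ha _ (hb x hx)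
  have hJ : Ideal.span (Set.range g) ≠ ⊤ := fun h => hv <| by
    have h1 : ∀ j ∈ Ideal.span (Set.range g), (j : Module.End k W) v ∈ U := fun j hj => by
      induction hj using Submodule.span_induction with
      | mem t ht =>
        obtain ⟨i, rfl⟩ := ht
        exact hNv i
      | zero => exact U.zero_mem
      | add a b _ _ ha hb => exact U.add_mem ha hb
      | smul r a _ ha => exact hSU r _ ha
    exact h1 1 (h ▸ Submodule.mem_top)
  obtain ⟨P, hP, hle⟩ := Ideal.exists_le_maximal _ hJ
  obtain ⟨w, hw, hw'⟩ := exists_ne_zero_forall_mem_eq_zero (W := W) P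
  exact ⟨w, hw, fun i => hw' (g i) (hle (Ideal.subset_span ⟨i, rfl⟩))⟩

/-- A commuting family of operators over an algebraically closed field has a common eigenvector. -/
theorem exists_common_eigen [IsAlgClosed k] {W ι : Type*} [AddCommGroup W] [Module k W]
    [FiniteDimensional k W] [Nontrivial W] (L : ι → Module.End k W)
    (hcomm : ∀ i j, L i * L j = L j * L i) :
    ∃ (w : W) (c : ι → k), w ≠ 0 ∧ ∀ i, L i w = c i • w := by
  let S := Algebra.adjoin k (Set.range L)
  let _ : CommRing S := Algebra.adjoinCommRingOfComm k (by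
    rintro _ ⟨i, rfl⟩ _ ⟨j, rfl⟩
    exact hcomm i j)
  let _ : Algebra k S := Subalgebra.algebra _
  have : IsArtinianRing S := IsArtinianRing.of_finite k S
  have : FaithfulSMul S W := ⟨fun {s t} h => Subtype.ext (LinearMap.ext h)⟩
  have : Nontrivial S := inferInstance
  obtain ⟨P, hP⟩ := Ideal.exists_maximal S
  obtain ⟨w, hw, hw'⟩ := exists_ne_zero_forall_mem_eq_zero (W := W) P
  let _ := Ideal.Quotient.field P
  have : Algebra.IsIntegral k (S ⧸ P) := Algebra.IsIntegral.of_finite k _
  have hsurj : Function.Surjective (algebraMap k (S ⧸ P)) :=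
    (IsAlgClosed.algebraMap_bijective_of_isIntegral (k := k) (K := S ⧸ P)).2
  choose c hc using fun i : ι => hsurj (Ideal.Quotient.mk P ⟨L i, Algebra.subset_adjoin ⟨i, rfl⟩⟩)
  refine ⟨w, c, hw, fun i => ?_⟩
  have h : (⟨L i, Algebra.subset_adjoin ⟨i, rfl⟩⟩ : S) - algebraMap k S (c i) ∈ P := by
    rw [← Ideal.Quotient.eq_zero_iff_mem, map_sub, Ideal.Quotient.mk_algebraMap, hc, sub_self]
  have := hw' _ h
  rw [sub_smul, sub_eq_zero, algebraMap_smul] at this
  exact this

variable {A B : Type*} [AddCommGroup A] [Module k A] [Coalgebra k A]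
  [AddCommGroup B] [Module k B] [Coalgebra k B]

/-- The action `a ↦ a₁ f(a₂)` of a functional. -/
noncomputable def act (f : A →ₗ[k] k) : A →ₗ[k] A :=
  (TensorProduct.rid k A).toLinearMap ∘ₗ f.lTensor A ∘ₗ Coalgebra.comul

theorem act_repr (f : A →ₗ[k] k) (a : A) {r : Type*} (R : Coalgebra.Repr k a r) :
    act f a = ∑ i ∈ R.index, f (R.right i) • R.left i := by
  simp [act, ← R.eq]

theorem act_counit (a : A) : act (Coalgebra.counit (R := k)) a = a := by
  simp [act]

/-- Elements of a tensor square are detected by functionals on the right factor. -/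
theorem tensor_ext_right (x y : A ⊗[k] A)
    (h : ∀ f : A →ₗ[k] k, TensorProduct.rid k A (f.lTensor A x) = TensorProduct.rid k A (f.lTensor A y)) :
    x = y := by
  classical
  let b := Module.Basis.ofVectorSpace k A
  refine (TensorProduct.equivFinsuppOfBasisRight b).injective (Finsupp.ext fun i => ?_)
  have e : ∀ z : A ⊗[k] A,
      TensorProduct.equivFinsuppOfBasisRight b z i = TensorProduct.rid k A ((b.coord i).lTensor A z) := by
    intro z
    induction z using TensorProduct.induction_on with
    | zero => simp
    | tmul p q => simp [TensorProduct.equivFinsuppOfBasisRight_apply_tmul_apply]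
    | add p q hp hq => simp [map_add, hp, hq]
  rw [e, e, h]

theorem act_act (f g : A →ₗ[k] k) (a : A) : act g (act f a) = act (g ∘ₗ act f) a := by
  have key : (TensorProduct.rid k A).toLinearMap ∘ₗ g.lTensor A ∘ₗ Coalgebra.comul ∘ₗ
      (TensorProduct.rid k A).toLinearMap ∘ₗ f.lTensor A ∘ₗ Coalgebra.comul =
      (TensorProduct.rid k A).toLinearMap ∘ₗ (g ∘ₗ act f).lTensor A ∘ₗ Coalgebra.comul := by
    have e : (TensorProduct.rid k A).toLinearMap ∘ₗ g.lTensor A ∘ₗ Coalgebra.comul ∘ₗ
        (TensorProduct.rid k A).toLinearMap ∘ₗ f.lTensor A =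
        (TensorProduct.rid k A).toLinearMap ∘ₗ
          ((TensorProduct.rid k k).toLinearMap ∘ₗ TensorProduct.map g f).lTensor A ∘ₗ
          (TensorProduct.assoc k A A A).toLinearMap ∘ₗ (Coalgebra.comul (R := k) (A := A)).rTensor A := by
      ext p q
      simp only [AlgebraTensorModule.curry_apply, curry_apply, LinearMap.coe_restrictScalars,
        LinearMap.coe_comp, Function.comp_apply, LinearMap.lTensor_tmul, LinearEquiv.coe_coe,
        rid_tmul, map_smul, LinearMap.rTensor_tmul]
      generalize Coalgebra.comul (R := k) p = z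
      induction z using TensorProduct.induction_on with
      | zero => simp
      | tmul s t => simp [smul_smul]
      | add s t hs ht => simp only [map_add, smul_add, add_tmul, hs, ht]
    simp only [← LinearMap.comp_assoc] at e ⊢
    rw [e]
    simp only [LinearMap.comp_assoc, Coalgebra.coassoc]
    congr 1
    rw [← LinearMap.comp_assoc, ← LinearMap.lTensor_comp]
    congr 2
    refine LinearMap.ext fun z => ?_
    simp only [act, LinearMap.comp_apply, LinearEquiv.coe_coe]
    generalize Coalgebra.comul (R := k) z = u
    induction u using TensorProduct.induction_on with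
    | zero => simp
    | tmul s t => simp [mul_comm]
    | add s t hs ht => simp only [map_add, hs, ht]
  exact LinearMap.congr_fun key a

variable [Coalgebra.IsCocomm k A]

theorem act_comm (f g : A →ₗ[k] k) (a : A) : act g (act f a) = act f (act g a) := by
  have h : g ∘ₗ act f = f ∘ₗ act g := LinearMap.ext fun z => by
    simp only [act, LinearMap.comp_apply, LinearEquiv.coe_coe]
    conv_rhs => rw [← Coalgebra.comm_comul k z]
    generalize Coalgebra.comul (R := k) z = u
    induction u using TensorProduct.induction_on with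
    | zero => simp
    | tmul s t => simp [mul_comm]
    | add s t hs ht => simp only [map_add, hs, ht]
  rw [act_act, act_act, h]

/-- Group-like elements lift along a surjection out of a cocommutative coalgebra. -/
theorem exists_isGroupLike_lift [IsAlgClosed k] (φ : A →ₗ[k] B)
    (hφ : TensorProduct.map φ φ ∘ₗ Coalgebra.comul = Coalgebra.comul ∘ₗ φ)
    (hsurj : Function.Surjective φ) {b : B} (hb : IsGroupLikeElem k b) :
    ∃ a : A, IsGroupLikeElem k a ∧ φ a = b := by
  obtain ⟨a₀, ha₀⟩ := hsurj b
  have equiv : ∀ (g : B →ₗ[k] k) (a : A), φ (act (g ∘ₗ φ) a) =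
      TensorProduct.rid k B (g.lTensor B (Coalgebra.comul (φ a))) := by
    intro g a
    rw [show Coalgebra.comul (φ a) = TensorProduct.map φ φ (Coalgebra.comul a) from
      (LinearMap.congr_fun hφ a).symm]
    simp only [act, LinearMap.comp_apply, LinearEquiv.coe_coe]
    generalize Coalgebra.comul (R := k) a = u
    induction u using TensorProduct.induction_on with
    | zero => simp
    | tmul s t => simp
    | add s t hs ht => simp only [map_add, hs, ht]
  -- the finite-dimensional invariant subspace generated by `a₀`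
  let R := Coalgebra.Repr.arbitrary k a₀
  let T : (A →ₗ[k] k) →ₗ[k] A :=
    { toFun := fun f => act f a₀
      map_add' := fun f g => by simp [act, LinearMap.lTensor_add]
      map_smul' := fun r f => by simp [act, LinearMap.lTensor_smul] }
  let W : Submodule k A := LinearMap.range T
  have hTle : W ≤ Submodule.span k (R.left '' (R.index : Set _)) := by
    rintro _ ⟨f, rfl⟩
    change act f a₀ ∈ _
    rw [act_repr f a₀ R]
    exact Submodule.sum_mem _ fun i hi =>
      Submodule.smul_mem _ _ (Submodule.subset_span ⟨i, hi, rfl⟩)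
  have : FiniteDimensional k (Submodule.span k (R.left '' (R.index : Set _))) :=
    FiniteDimensional.span_of_finite k (R.index.finite_toSet.image _)
  have : FiniteDimensional k W := Submodule.finiteDimensional_of_le hTle
  have hW : ∀ f : A →ₗ[k] k, ∀ x ∈ W, act f x ∈ W := by
    rintro f _ ⟨g, rfl⟩
    exact ⟨f ∘ₗ act g, (act_act g f a₀).symm⟩
  have hmem : a₀ ∈ W := ⟨Coalgebra.counit (R := k), act_counit a₀⟩
  let L : (A →ₗ[k] k) → Module.End k W := fun f => (act f).restrict (hW f)
  have hL : ∀ f g, L f * L g = L g * L f := fun f g =>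
    LinearMap.ext fun x => Subtype.ext (act_comm g f (x : A))
  let N : (B →ₗ[k] k) → Module.End k W := fun g => L (g ∘ₗ φ) - g b • 1
  have hN : ∀ g h, N g * N h = N h * N g := fun g h =>
    (Commute.sub_left
      (Commute.sub_right (hL _ _) ((Commute.one_right _).smul_right _))
      ((Commute.one_left _).smul_left _))
  let U : Submodule k W := LinearMap.ker (φ ∘ₗ W.subtype)
  have hNU : ∀ g (x : W), φ ((N g x : W) : A) =
      TensorProduct.rid k B (g.lTensor B (Coalgebra.comul (φ x))) - g b • φ x := fun g x => by
    simp [N, L, equiv]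
  obtain ⟨w, hw0, hw⟩ := exists_common_kernel N hN U
    (fun g x hx => by
      change φ ((N g x : W) : A) = 0
      rw [hNU, show φ (x : A) = 0 from hx]
      simp)
    ⟨a₀, hmem⟩ (fun h => hb.ne_zero (ha₀ ▸ h))
    (fun g => by
      change φ ((N g _ : W) : A) = 0
      rw [hNU]
      simp [ha₀, hb.comul_eq_tmul_self])
  -- common eigenvector of all functionals, among the eigenvectors with eigenvalue given by `b`
  let W' : Submodule k W := ⨅ g, LinearMap.ker (N g)
  have hwW' : w ∈ W' := (Submodule.mem_iInf _).2 hw
  have : Nontrivial W' := ⟨⟨⟨w, hwW'⟩, 0, fun h => hw0 (congrArg Subtype.val h)⟩⟩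
  have hW' : ∀ f, ∀ x ∈ W', L f x ∈ W' := fun f x hx => by
    refine (Submodule.mem_iInf _).2 fun g => ?_
    have hx' : N g x = 0 := (Submodule.mem_iInf _).1 hx g
    change N g (L f x) = 0
    have hc : N g * L f = L f * N g :=
      Commute.sub_left (hL _ _) ((Commute.one_left _).smul_left _)
    rw [← Module.End.mul_apply, hc, Module.End.mul_apply, hx', map_zero]
  obtain ⟨⟨⟨a, haW⟩, haW'⟩, c, ha0, hc⟩ := exists_common_eigen (fun f => (L f).restrict (hW' f))
    (fun f g => LinearMap.ext fun x => Subtype.ext (LinearMap.congr_fun (hL f g) x.1))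
  have ha : a ≠ 0 := fun h => ha0 (Subtype.ext (Subtype.ext h))
  have hc' : ∀ f, act f a = c f • a := fun f =>
    congrArg (fun x : W' => ((x : W) : A)) (hc f)
  have hcf : ∀ f, c f * Coalgebra.counit (R := k) a = f a := fun f => by
    have h1 : Coalgebra.counit (R := k) (act f a) = f a := by
      simp only [act, LinearMap.comp_apply, LinearEquiv.coe_coe]
      have h2 := Coalgebra.rTensor_counit_comul (R := k) a
      have h3 : ∀ u : A ⊗[k] A, Coalgebra.counit (R := k) (TensorProduct.rid k A (f.lTensor A u)) =
          f (TensorProduct.lid k A ((Coalgebra.counit (R := k)).rTensor A u)) := fun u => by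
        induction u using TensorProduct.induction_on with
        | zero => simp
        | tmul s t => simp [mul_comm]
        | add s t hs ht => simp only [map_add, hs, ht]
      rw [h3, h2]
      simp
    rw [← h1, hc', map_smul, smul_eq_mul]
  have hε : Coalgebra.counit (R := k) a ≠ 0 := fun h => ha <| by
    refine (Module.forall_dual_apply_eq_zero_iff k a).1 fun f => ?_
    rw [← hcf f, h, mul_zero]
  let a' := (Coalgebra.counit (R := k) a)⁻¹ • a
  have hf' : ∀ f : A →ₗ[k] k, f a' = c f := fun f => by
    rw [map_smul, smul_eq_mul, ← hcf f, mul_comm (c f), inv_mul_cancel_left₀ hε]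
  refine ⟨a', ⟨?_, ?_⟩, ?_⟩
  · rw [map_smul, smul_eq_mul, inv_mul_cancel₀ hε]
  · refine tensor_ext_right _ _ fun f => ?_
    change act f a' = _
    rw [map_smul, hc']
    rw [LinearMap.lTensor_tmul, TensorProduct.rid_tmul, hf', smul_comm]
  · refine (Module.forall_dual_apply_eq_zero_iff k _).1 (fun g => ?_) |> sub_eq_zero.1
    have h : N g ⟨a, haW⟩ = 0 := (Submodule.mem_iInf _).1 haW' g
    have h' : act (g ∘ₗ φ) a - g b • a = 0 := congrArg (fun x : W => (x : A)) h
    rw [hc', ← sub_smul, smul_eq_zero, sub_eq_zero] at h'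
    rw [map_sub, sub_eq_zero, ← h'.resolve_right ha, ← hf']
    rfl

end Groth.Agent.GrpLikeExtend
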